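import Cfsg.Agent.Lib.LocStruct.SylowIn
import Cfsg.Agent.Lib.PGroup.Extra
import Cfsg.Agent.Lib.SL2.Dickson

/-!
Groups with an extraspecial Sylow subgroup of order `p ^ 3`: planes with `SL₂(p)` automizers.
-/

set_option autoImplicit false

namespace H91

open Subgroup H69 H5 H29 MulAction Matrix
open scoped commutatorElement MatrixGroups

section count

theorem arith_pts {n1 n2 n3 e1 e2 e3 N : ℕ} (h1 : n1 * e1 = N) (h2 : n2 * e2 = N)
    (h3 : n3 * e3 = N) (g1 : 4 ≤ e1) (g2 : 2 ≤ e2) (g3 : 2 ≤ e3) (h : n1 + n2 + n3 = N + 2) :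
    e2 ≤ 3 ∧ e3 ≤ 3 ∧ (n1 = 2 ∨ e1 = 5 ∨ (e1 = 4 ∧ n1 = 6)) := by
  have a1 : n1 * 4 ≤ N := h1 ▸ Nat.mul_le_mul_left _ g1
  have a2 : n2 * 2 ≤ N := h2 ▸ Nat.mul_le_mul_left _ g2
  have a3 : n3 * 2 ≤ N := h3 ▸ Nat.mul_le_mul_left _ g3
  have b2 : e2 ≤ 3 := by
    by_contra hc
    have : n2 * 4 ≤ N := h2 ▸ Nat.mul_le_mul_left _ (by omega)
    omega
  have b3 : e3 ≤ 3 := by
    by_contra hc
    have : n3 * 4 ≤ N := h3 ▸ Nat.mul_le_mul_left _ (by omega)
    omega
  refine ⟨b2, b3, ?_⟩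
  by_cases h6 : 6 ≤ e1
  · have : n1 * 6 ≤ N := h1 ▸ Nat.mul_le_mul_left _ h6
    interval_cases e2 <;> interval_cases e3 <;> omega
  · have : e1 ≤ 5 := by omega
    interval_cases e1 <;> interval_cases e2 <;> interval_cases e3 <;> omega

theorem card_pts_le {p : ℕ} {L : Type*} [Field L] {H : Type*} [Group H] {Ω : Type*}
    [MulAction H Ω] [Finite H] (hM : Mob p L H Ω) (hu : ∀ x, hM.u x = 1) {n : ℕ} (hn : 4 ≤ n)
    (X : Finset Ω) (hX : ∀ x ∈ X, n ∣ eSt H x) :
    (6 ≤ n → X.card ≤ 2) ∧ (n = 4 → X.card ≤ 6) := by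
  classical
  have hge : ∀ x ∈ X, n ≤ eSt H x := fun x hx => Nat.le_of_dvd (eSt_pos x) (hX x hx)
  have hsp : ∀ x ∈ X, Special H x := fun x hx => special_of_two_le_eSt (by
    have := hge x hx; omega)
  rcases X.eq_empty_or_nonempty with rfl | ⟨x, hx⟩
  · simp
  have horb : ∀ y : Ω, (Finite.finite_mulAction_orbit (M := H) y).toFinset.card = nOrb H y := by
    intro y
    rw [nOrb_eq_card_orbit, Nat.card_coe_set_eq,
      Set.ncard_eq_toFinset_card _ (Finite.finite_mulAction_orbit (M := H) y)]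
  have hw : ∀ y : Ω, nOrb H y * hM.w ⊤ y + nOrb H y = Nat.card H := by
    intro y
    rw [hM.w_top, hu, ← nOrb_mul_eSt y]
    have := eSt_pos (H := H) y
    obtain ⟨k, hk⟩ : ∃ k, eSt H y = k + 1 := ⟨eSt H y - 1, by omega⟩
    rw [hk]; simp [mul_add]
  have hpos : ∀ y : Ω, 0 < nOrb H y := nOrb_pos
  rcases hM.orbits (hsp x hx) with ⟨-, h1⟩ | ⟨y, -, -, h0, h1⟩ | ⟨y, t, hy, ht, h0, h1⟩
  · exfalso
    have h2 := h1 ⊤ inferInstance
    have h3 := hw x
    have h4 := nOrb_mul_eSt (H := H) x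
    have h5 : nOrb H x * 4 ≤ nOrb H x * eSt H x := Nat.mul_le_mul_left _ (hn.trans (hge x hx))
    have := hpos x
    rw [card_top] at h2
    omega
  · have h2 := h1 ⊤ inferInstance
    have h3 := hw x
    have h4 := hw y
    rw [card_top] at h2
    have : X.card ≤ nOrb H x + nOrb H y := by
      rw [← horb, ← horb]
      refine le_trans (Finset.card_le_card fun z hz => ?_) (Finset.card_union_le _ _)
      simpa using h0 z (hsp z hz)
    omega
  · have h2 := h1 ⊤ inferInstance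
    have h3 := hw x
    have h4 := hw y
    have h5 := hw t
    rw [card_top] at h2
    obtain ⟨b2, b3, b1⟩ := arith_pts (nOrb_mul_eSt (H := H) x) (nOrb_mul_eSt (H := H) y)
      (nOrb_mul_eSt (H := H) t) (hn.trans (hge x hx)) hy.two_le_eSt ht.two_le_eSt (by omega)
    have : X.card ≤ nOrb H x := by
      rw [← horb]
      refine Finset.card_le_card fun z hz => ?_
      have hz' := hge z hz
      rcases h0 z (hsp z hz) with h | h | h
      · simpa using h
      · rw [eSt_of_mem_orbit h] at hz'; omega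
      · rw [eSt_of_mem_orbit h] at hz'; omega
    have h6 := hge x hx
    have h7 := hX x hx
    refine ⟨fun h8 => by omega, fun h8 => ?_⟩
    rcases b1 with b | b | b
    · omega
    · rw [b, h8] at h7; omega
    · omega

end count

variable {G : Type*} [Group G] {p : ℕ} [hp : Fact p.Prime]

section zp

theorem zp_add {a : G} (ha : a ^ p = 1) (i j : ZMod p) :
    a ^ (i + j).val = a ^ i.val * a ^ j.val := by
  rw [← pow_add, ZMod.val_add, ← pow_eq_pow_mod _ ha]

theorem zp_mul {a : G} (ha : a ^ p = 1) (i j : ZMod p) :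
    a ^ (i * j).val = (a ^ i.val) ^ j.val := by
  rw [← pow_mul, ZMod.val_mul, ← pow_eq_pow_mod _ ha]

theorem zp_natCast {a : G} (ha : a ^ p = 1) (k : ℕ) : a ^ (k : ZMod p).val = a ^ k := by
  rw [ZMod.val_natCast, ← pow_eq_pow_mod _ ha]

theorem zp_inj {a : G} (ha : orderOf a = p) {i j : ZMod p} (h : a ^ i.val = a ^ j.val) : i = j := by
  apply ZMod.val_injective
  exact pow_injOn_Iio_orderOf (by rw [ha]; exact ZMod.val_lt i) (by rw [ha]; exact ZMod.val_lt j) h

open Classical in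
/-- Discrete logarithm to base `z`. -/
noncomputable def lg (p : ℕ) (z g : G) : ZMod p :=
  if h : ∃ i : ZMod p, z ^ i.val = g then h.choose else 0

omit hp in
theorem lg_eq_defs : True := by
  have := @lg.eq_1.{0}
  trivial

theorem lg_spec {z g : G} (hz : orderOf z = p) (hg : g ∈ zpowers z) : z ^ (lg p z g).val = g := by
  have h : ∃ i : ZMod p, z ^ i.val = g := by
    have hf : IsOfFinOrder z := orderOf_pos_iff.1 (hz ▸ hp.out.pos)
    obtain ⟨k, rfl⟩ := (hf.mem_powers_iff_mem_zpowers).2 hg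
    exact ⟨k, zp_natCast (hz ▸ pow_orderOf_eq_one z) k⟩
  rw [lg, dif_pos h]
  exact h.choose_spec

theorem lg_zp {z : G} (hz : orderOf z = p) (i : ZMod p) : lg p z (z ^ i.val) = i :=
  zp_inj hz (lg_spec hz (pow_mem (mem_zpowers z) _))

theorem lg_mul {z g g' : G} (hz : orderOf z = p) (hg : g ∈ zpowers z) (hg' : g' ∈ zpowers z) :
    lg p z (g * g') = lg p z g + lg p z g' := by
  refine zp_inj hz ?_
  rw [zp_add (hz ▸ pow_orderOf_eq_one z), lg_spec hz hg, lg_spec hz hg', lg_spec hz (mul_mem hg hg')]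

theorem lg_one {z : G} (hz : orderOf z = p) : lg p z 1 = 0 := by
  have := lg_zp hz 0
  rwa [ZMod.val_zero, pow_zero] at this

theorem lg_self {z : G} (hz : orderOf z = p) : lg p z z = 1 := by
  have := lg_zp hz 1
  rwa [ZMod.val_one, pow_one] at this

theorem eq_one_of_lg {z g : G} (hz : orderOf z = p) (hg : g ∈ zpowers z) (h : lg p z g = 0) :
    g = 1 := by
  rw [← lg_spec hz hg, h, ZMod.val_zero, pow_zero]

/-- `g` acts on the plane spanned by `a` and `z` through the matrix `(i k; j l)`. -/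
def Act (p : ℕ) (a z g : G) (i j k l : ZMod p) : Prop :=
  g * a * g⁻¹ = a ^ i.val * z ^ j.val ∧ g * z * g⁻¹ = a ^ k.val * z ^ l.val

omit hp in
theorem act_eq_defs : True := by
  have := @Act.eq_1.{0}
  trivial

theorem Act.mul {a z g g' : G} (ha : a ^ p = 1) (hz : z ^ p = 1) (hc : Commute a z)
    {i j k l i' j' k' l' : ZMod p} (h : Act p a z g i j k l) (h' : Act p a z g' i' j' k' l') :
    Act p a z (g * g') (i * i' + k * j') (j * i' + l * j') (i * k' + k * l') (j * k' + l * l') := by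
  have key : ∀ s t : ZMod p, g * (a ^ s.val * z ^ t.val) * g⁻¹ =
      a ^ (i * s + k * t).val * z ^ (j * s + l * t).val := by
    intro s t
    have h1 : g * (a ^ s.val * z ^ t.val) * g⁻¹ =
        (g * a * g⁻¹) ^ s.val * (g * z * g⁻¹) ^ t.val := by
      rw [conj_pow, conj_pow]; group
    rw [h1, h.1, h.2, (hc.pow_pow _ _).mul_pow, (hc.pow_pow _ _).mul_pow, zp_add ha, zp_add hz,
      zp_mul ha, zp_mul ha, zp_mul hz, zp_mul hz]
    have h2 : Commute ((z ^ j.val) ^ s.val) ((a ^ k.val) ^ t.val) :=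
      ((hc.symm.pow_pow _ _).pow_pow _ _)
    rw [mul_assoc, ← mul_assoc ((z ^ j.val) ^ s.val), h2.eq]
    group
  constructor
  · rw [← key, ← h'.1]; group
  · rw [← key, ← h'.2]; group

theorem Act.pow_left {a z g : G} (ha : a ^ p = 1) (hz : z ^ p = 1) (hc : Commute a z)
    (h : Act p a z g 1 1 0 1) (t : ZMod p) : Act p a z (g ^ t.val) 1 t 0 1 := by
  have : ∀ k : ℕ, Act p a z (g ^ k) 1 k 0 1 := by
    intro k
    induction k with
    | zero => simp [Act, ZMod.val_one]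
    | succ k ih =>
      have := ih.mul ha hz hc h
      simpa [pow_succ] using this
  simpa using this t.val

theorem Act.pow_right {a z g : G} (ha : a ^ p = 1) (hz : z ^ p = 1) (hc : Commute a z)
    (h : Act p a z g 1 0 1 1) (t : ZMod p) : Act p a z (g ^ t.val) 1 0 t 1 := by
  have : ∀ k : ℕ, Act p a z (g ^ k) 1 0 k 1 := by
    intro k
    induction k with
    | zero => simp [Act, ZMod.val_one]
    | succ k ih =>
      have := ih.mul ha hz hc h
      simpa [pow_succ, add_comm] using this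
  simpa using this t.val

theorem exists_act_diag {a z u v : G} (ha : a ^ p = 1) (hz : z ^ p = 1) (hc : Commute a z)
    (hu : Act p a z u 1 1 0 1) (hv : Act p a z v 1 0 1 1) {l l' : ZMod p} (hl : l' * l = 1) :
    ∃ g, Act p a z g l' 0 0 l := by
  have U := hu.pow_left ha hz hc
  have V := hv.pow_right ha hz hc
  have W : ∀ t t' : ZMod p, t' * t = 1 → ∃ g, Act p a z g 0 (-t) t' 0 := by
    intro t t' ht
    have h1 := ((V t').mul ha hz hc (U (-t))).mul ha hz hc (V t')
    have e1 : (1 * 1 + t' * -t) * 1 + (1 * 0 + t' * 1) * 0 = 0 := by linear_combination -ht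
    have e2 : (0 * 1 + 1 * -t) * 1 + (0 * 0 + 1 * 1) * 0 = -t := by ring
    have e3 : (1 * 1 + t' * -t) * t' + (1 * 0 + t' * 1) * 1 = t' := by
      linear_combination (-t') * ht
    have e4 : (0 * 1 + 1 * -t) * t' + (0 * 0 + 1 * 1) * 1 = 0 := by linear_combination -ht
    rw [e1, e2, e3, e4] at h1
    exact ⟨_, h1⟩
  obtain ⟨g, hg⟩ := W l l' hl
  obtain ⟨g', hg'⟩ := W (-1) (-1) (by simp)
  exact ⟨_, by simpa using hg.mul ha hz hc hg'⟩

end zp

section coord

/-- Standard generators of an extraspecial subgroup of order `p ^ 3`. -/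
structure XS (p : ℕ) (P : Subgroup G) (z x y : G) : Prop where
  wes : WES p P z
  hx : x ∈ P
  hy : y ∈ P
  xy : ⁅x, y⁆ = z
  card : Nat.card P = p ^ 3
  ex : ∀ u ∈ P, u ^ p = 1

/-- The commutator form. -/
noncomputable def bf (p : ℕ) (z u v : G) : ZMod p := lg p z ⁅u, v⁆

/-- Coordinates modulo the centre. -/
noncomputable def co (p : ℕ) (z x y u : G) : Fin 2 → ZMod p := ![bf p z u y, bf p z x u]

/-- The matrix of conjugation. -/
noncomputable def cm (p : ℕ) (z x y n : G) : Matrix (Fin 2) (Fin 2) (ZMod p) :=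
  Matrix.of fun i j => ![co p z x y (n * x * n⁻¹), co p z x y (n * y * n⁻¹)] j i

omit hp in
theorem xs_eq_defs : True := by
  have := @bf.eq_1.{0}
  have := @co.eq_1.{0}
  have := @cm.eq_1.{0}
  trivial

namespace XS

variable {P : Subgroup G} {z x y : G} (h : XS p P z x y)
include h

theorem bf_mul_left {a b c : G} (ha : a ∈ P) (hb : b ∈ P) (hc : c ∈ P) :
    bf p z (a * b) c = bf p z a c + bf p z b c := by
  rw [bf, h.wes.commutator_mul_left ha (h.wes.comm b hb c hc),
    lg_mul h.wes.ord (h.wes.comm b hb c hc) (h.wes.comm a ha c hc), add_comm]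
  rfl

theorem bf_swap {a b : G} (ha : a ∈ P) (hb : b ∈ P) : bf p z a b = - bf p z b a := by
  rw [eq_neg_iff_add_eq_zero, bf, bf, ← lg_mul h.wes.ord (h.wes.comm a ha b hb)
    (h.wes.comm b hb a ha), ← commutatorElement_inv a b, mul_inv_cancel, lg_one h.wes.ord]

theorem bf_of_commute {a b : G} (hab : Commute a b) : bf p z a b = 0 := by
  rw [bf, hab.commutator_eq, lg_one h.wes.ord]

theorem commute_of_bf {a b : G} (ha : a ∈ P) (hb : b ∈ P) (h0 : bf p z a b = 0) : Commute a b :=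
  commutatorElement_eq_one_iff_commute.1 (eq_one_of_lg h.wes.ord (h.wes.comm a ha b hb) h0)

theorem bf_mul_right {a b c : G} (ha : a ∈ P) (hb : b ∈ P) (hc : c ∈ P) :
    bf p z c (a * b) = bf p z c a + bf p z c b := by
  rw [h.bf_swap hc (mul_mem ha hb), h.bf_mul_left ha hb hc, h.bf_swap hc ha, h.bf_swap hc hb]
  ring

theorem bf_xy : bf p z x y = 1 := by rw [bf, h.xy, lg_self h.wes.ord]

theorem z_ne_one : z ≠ 1 := by
  intro h0
  have := h.wes.ord
  rw [h0, orderOf_one] at this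
  exact hp.out.one_lt.ne this

theorem cent_xy [Finite G] : P ⊓ centralizer {x} ⊓ centralizer {y} = zpowers z := by
  have hne : ⁅x, y⁆ ≠ 1 := h.xy ▸ h.z_ne_one
  have h1 := h.wes.card_sub hp.out h.hx h.hy hne
  have h2 := (h.wes.sub hp.out h.hx h.hy hne).zpowers_le
  refine (eq_of_le_of_card_ge h2 ?_).symm
  rw [h.wes.card_zpowers]
  rw [h.card, pow_succ, pow_two] at h1
  have h3 := Nat.eq_of_mul_eq_mul_right hp.out.pos h1
  exact (Nat.eq_of_mul_eq_mul_right hp.out.pos h3).ge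

theorem lin [Finite G] (f : G → ZMod p) (hf : ∀ a ∈ P, ∀ b ∈ P, f (a * b) = f a + f b)
    (hz : f z = 0) {u : G} (hu : u ∈ P) : f u = bf p z u y * f x + bf p z x u * f y := by
  have hne : ⁅x, y⁆ ≠ 1 := h.xy ▸ h.z_ne_one
  have key : ∀ f : G → ZMod p, (∀ a ∈ P, ∀ b ∈ P, f (a * b) = f a + f b) →
      ∀ a ∈ P, ∀ i : ℤ, f (a ^ i) = i * f a := by
    intro f hf a ha i
    let F : P →* Multiplicative (ZMod p) := MonoidHom.mk' (fun a => Multiplicative.ofAdd (f a))
      (fun a b => by rw [← ofAdd_add, ← hf a a.2 b b.2]; rfl)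
    have := congrArg Multiplicative.toAdd (map_zpow F ⟨a, ha⟩ i)
    simpa [F] using this
  have key2 : ∀ f : G → ZMod p, (∀ a ∈ P, ∀ b ∈ P, f (a * b) = f a + f b) → f z = 0 →
      ∀ (i j : ℤ), ∀ c ∈ zpowers z, f (x ^ i * y ^ j * c) = i * f x + j * f y := by
    rintro f hf hz i j c ⟨k, rfl⟩
    rw [hf _ (mul_mem (zpow_mem h.hx i) (zpow_mem h.hy j)) _ (zpow_mem h.wes.mem k),
      hf _ (zpow_mem h.hx i) _ (zpow_mem h.hy j), key f hf _ h.hx, key f hf _ h.hy,
      key f hf _ h.wes.mem, hz]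
    ring
  obtain ⟨i, j, c, hc, rfl⟩ := h.wes.exists_decomp hp.out h.hx h.hy hne hu
  rw [h.cent_xy] at hc
  have h1 := key2 (fun u => bf p z u y) (fun a ha b hb => h.bf_mul_left ha hb h.hy)
    (h.bf_of_commute (h.wes.commute (mem_zpowers z) h.hy).symm) i j c hc
  have h2 := key2 (fun u => bf p z x u) (fun a ha b hb => h.bf_mul_right ha hb h.hx)
    (h.bf_of_commute (h.wes.commute (mem_zpowers z) h.hx)) i j c hc
  simp only [h.bf_xy, h.bf_of_commute (Commute.refl _)] at h1 h2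
  rw [h1, h2, key2 f hf hz i j c hc]
  ring

theorem bf_eq [Finite G] {u v : G} (hu : u ∈ P) (hv : v ∈ P) :
    bf p z u v = co p z x y u 0 * co p z x y v 1 - co p z x y u 1 * co p z x y v 0 := by
  rw [h.lin (fun u => bf p z u v) (fun a ha b hb => h.bf_mul_left ha hb hv)
    (h.bf_of_commute (h.wes.commute (mem_zpowers z) hv).symm) hu, h.bf_swap h.hy hv]
  simp [co]
  ring

theorem co_mul {a b : G} (ha : a ∈ P) (hb : b ∈ P) :
    co p z x y (a * b) = co p z x y a + co p z x y b := by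
  simp [co, h.bf_mul_left ha hb h.hy, h.bf_mul_right ha hb h.hx]

theorem co_of_mem {c : G} (hc : c ∈ zpowers z) : co p z x y c = 0 := by
  simp [co, h.bf_of_commute (h.wes.commute hc h.hy).symm, h.bf_of_commute (h.wes.commute hc h.hx)]

theorem co_x : co p z x y x = ![1, 0] := by
  simp [co, h.bf_xy, h.bf_of_commute (Commute.refl _)]

theorem co_y : co p z x y y = ![0, 1] := by
  simp [co, h.bf_xy, h.bf_of_commute (Commute.refl _)]

theorem co_pow {a : G} (ha : a ∈ P) (k : ℕ) : co p z x y (a ^ k) = (k : ZMod p) • co p z x y a := by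
  induction k with
  | zero => simp [h.co_of_mem (one_mem _)]
  | succ k ih => rw [pow_succ, h.co_mul (pow_mem ha k) ha, ih]; simp [add_smul]

theorem co_ne_zero [Finite G] {a : G} (ha : a ∈ P) (haz : a ∉ zpowers z) : co p z x y a ≠ 0 := by
  intro h0
  refine haz (h.wes.mem_zpowers_of_commute ha fun v hv => h.commute_of_bf hv ha ?_)
  rw [h.bf_eq hv ha, h0]; simp

omit hp in
theorem conj_z {n : G} (hn : n ∈ 𝐍(P)) : n * z * n⁻¹ ∈ zpowers z := by
  rw [← h.wes.cent]
  exact conj_mem_of_mem_normalizer (le_normalizer_inf le_rfl (le_normalizer_centralizer le_rfl) hn)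
    ⟨h.wes.mem, h.wes.zpowers_le_cent (mem_zpowers z)⟩

theorem cm_mulVec [Finite G] {n u : G} (hn : n ∈ 𝐍(P)) (hu : u ∈ P) :
    cm p z x y n *ᵥ co p z x y u = co p z x y (n * u * n⁻¹) := by
  funext i
  rw [h.lin (fun u => co p z x y (n * u * n⁻¹) i) (fun a ha b hb => by
    have : n * (a * b) * n⁻¹ = (n * a * n⁻¹) * (n * b * n⁻¹) := by group
    simp only [this, h.co_mul (conj_mem_of_mem_normalizer hn ha)
      (conj_mem_of_mem_normalizer hn hb), Pi.add_apply])
    (by simp only [h.co_of_mem (h.conj_z hn), Pi.zero_apply]) hu, mulVec_two]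
  simp [cm, co, mul_comm]

theorem mat_ext {A B : Matrix (Fin 2) (Fin 2) (ZMod p)}
    (hAB : ∀ u ∈ P, A *ᵥ co p z x y u = B *ᵥ co p z x y u) : A = B := by
  have h1 := hAB x h.hx
  have h2 := hAB y h.hy
  rw [h.co_x] at h1
  rw [h.co_y] at h2
  ext i j
  fin_cases j
  · simpa [mulVec_two] using congrFun h1 i
  · simpa [mulVec_two] using congrFun h2 i

theorem cm_of_mem [Finite G] {n : G} (hn : n ∈ P) : cm p z x y n = 1 := by
  refine h.mat_ext fun u hu => ?_
  rw [h.cm_mulVec (le_normalizer hn) hu, one_mulVec]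
  have : n * u * n⁻¹ = ⁅n, u⁆ * u := by rw [commutatorElement_def]; group
  rw [this, h.co_mul (h.wes.zpowers_le (h.wes.comm n hn u hu)) hu,
    h.co_of_mem (h.wes.comm n hn u hu), zero_add]

/-- The action of the normalizer on the central quotient. -/
noncomputable def rho [Finite G] : 𝐍(P) →* GL (Fin 2) (ZMod p) :=
  MonoidHom.toHomUnits (M := Matrix (Fin 2) (Fin 2) (ZMod p))
    { toFun := fun n => cm p z x y n
      map_one' := h.cm_of_mem (one_mem _)
      map_mul' := fun a b => h.mat_ext fun u hu => by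
        rw [← mulVec_mulVec, h.cm_mulVec (a * b).2 hu, h.cm_mulVec b.2 hu,
          h.cm_mulVec a.2 (conj_mem_of_mem_normalizer b.2 hu)]
        congr 1
        simp [mul_assoc] }

theorem rho_val [Finite G] (n : 𝐍(P)) : (h.rho n).val = cm p z x y n := rfl

theorem det_cm [Finite G] {n : G} (hn : n ∈ 𝐍(P)) :
    (cm p z x y n).det = lg p z (n * z * n⁻¹) := by
  have h1 := h.bf_eq (conj_mem_of_mem_normalizer hn h.hx) (conj_mem_of_mem_normalizer hn h.hy)
  rw [bf, ← conjugate_commutatorElement, h.xy] at h1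
  rw [h1, det_fin_two]
  simp [cm, mul_comm]

theorem exists_act {a : G} (ha : a ∈ P) (haz : a ∉ zpowers z) : ∃ u ∈ P, Act p a z u 1 1 0 1 := by
  obtain ⟨v, hv, hva⟩ : ∃ v ∈ P, ¬ Commute v a := by
    by_contra hc
    push Not at hc
    exact haz (h.wes.mem_zpowers_of_commute ha hc)
  obtain ⟨i, hi⟩ := exists_zpow_eq_of_prime hp.out h.wes.ord (h.wes.comm v hv a ha)
    (fun h0 => hva (commutatorElement_eq_one_iff_commute.1 h0)) (mem_zpowers z)
  have key : ∀ i : ℤ, ⁅v ^ i, a⁆ = ⁅v, a⁆ ^ i := by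
    intro i
    let F : P →* G := MonoidHom.mk' (fun v => ⁅(v : G), a⁆) (fun b c => by
      simp only [coe_mul]
      rw [h.wes.commutator_mul_left b.2 (h.wes.comm c c.2 a ha)]
      exact (h.wes.commute (h.wes.comm b b.2 a ha) (h.wes.zpowers_le (h.wes.comm c c.2 a ha))).eq)
    simpa [F] using map_zpow F ⟨v, hv⟩ i
  refine ⟨v ^ i, zpow_mem hv i, ?_, ?_⟩
  · rw [ZMod.val_one, pow_one, pow_one, (h.wes.commute (mem_zpowers z) ha).eq, ← hi, ← key,
      commutatorElement_def]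
    group
  · rw [ZMod.val_one, pow_one, ZMod.val_zero, pow_zero, one_mul,
      (h.wes.commute (mem_zpowers z) (zpow_mem hv i)).eq]
    group

/-- `a` spans together with the centre a plane with an `SL₂(p)` automizer. -/
def Rad (p : ℕ) (P : Subgroup G) (z a : G) : Prop :=
  a ∈ P ∧ a ∉ zpowers z ∧ ∃ v, Act p a z v 1 0 1 1

omit h hp in
theorem rad_eq_defs : True := by
  have := @Rad.eq_1.{0}
  trivial

theorem exists_torus [Finite G] (hP : IsSylowIn p P ⊤) {a : G} (ha : Rad p P z a)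
    {l l' : ZMod p} (hl : l' * l = 1) : ∃ n ∈ 𝐍(P), cm p z x y n *ᵥ co p z x y a =
      l' • co p z x y a ∧ (cm p z x y n).det = l := by
  obtain ⟨haP, haz, v, hv⟩ := ha
  obtain ⟨u, -, hu⟩ := h.exists_act haP haz
  have hc : Commute a z := h.wes.commute (mem_zpowers z) haP
  obtain ⟨g, hg1, hg2⟩ := exists_act_diag (h.ex a haP) (h.ex z h.wes.mem) hc hu hv hl
  rw [ZMod.val_zero, pow_zero, mul_one] at hg1
  rw [ZMod.val_zero, pow_zero, one_mul] at hg2
  have hzc : ∀ k : G, k * z = z * k → ∀ c ∈ zpowers z, k * c * k⁻¹ = c := by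
    rintro k hk c ⟨i, rfl⟩
    have : Commute k z := hk
    show k * z ^ i * k⁻¹ = z ^ i
    rw [(this.zpow_right i).eq]; group
  let K : Subgroup G :=
    { carrier := {k | k * z = z * k ∧ k * a * k⁻¹ * a⁻¹ ∈ zpowers z}
      one_mem' := by simp
      mul_mem' := by
        rintro k k' ⟨h1, h2⟩ ⟨h3, h4⟩
        refine ⟨by rw [mul_assoc, h3, ← mul_assoc, h1, mul_assoc], ?_⟩
        have : k * k' * a * (k * k')⁻¹ * a⁻¹ =
            (k * (k' * a * k'⁻¹ * a⁻¹) * k⁻¹) * (k * a * k⁻¹ * a⁻¹) := by group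
        rw [this, hzc k h1 _ h4]
        exact mul_mem h4 h2
      inv_mem' := by
        rintro k ⟨h1, h2⟩
        have h3 : k⁻¹ * z = z * k⁻¹ := (show Commute k z from h1).inv_left
        refine ⟨h3, ?_⟩
        have : k⁻¹ * a * k⁻¹⁻¹ * a⁻¹ = k⁻¹ * (k * a * k⁻¹ * a⁻¹)⁻¹ * k⁻¹⁻¹ := by group
        rw [this, hzc _ h3 _ (inv_mem h2)]
        exact inv_mem h2 }
  have hPK : P ≤ K := fun k hk =>
    ⟨(h.wes.commute (mem_zpowers z) hk).eq, h.wes.comm k hk a haP⟩
  have hpow : ∀ k ∈ K, ∀ m : ℕ, ∃ c ∈ zpowers z, k * a ^ m * k⁻¹ = c * a ^ m := by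
    intro k hk m
    refine ⟨(k * a * k⁻¹ * a⁻¹) ^ m, pow_mem hk.2 m, ?_⟩
    rw [← (h.wes.commute hk.2 haP).symm.mul_pow, ← conj_pow]
    congr 1; group
  have hgz : ∀ c ∈ zpowers z, g⁻¹ * c * g ∈ zpowers z := by
    have : g ∈ 𝐍(zpowers z) := by
      refine mem_normalizer_of_cj_le ?_
      rw [cj_zpowers, hg2]
      exact zpowers_le.2 (pow_mem (mem_zpowers z) _)
    exact fun c hc => conj_mem_of_mem_normalizer' this hc
  have hgK : g ∈ 𝐍(K) := by
    refine inv_mem_iff.1 (mem_normalizer_of_cj_le fun k0 hk0 => ?_)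
    obtain ⟨k, hk, rfl⟩ := mem_cj'.1 hk0
    constructor
    · have h1 := hzc k hk.1 _ (pow_mem (mem_zpowers z) l.val)
      rw [← hg2] at h1
      calc g⁻¹ * k * g⁻¹⁻¹ * z = g⁻¹ * (k * (g * z * g⁻¹) * k⁻¹) * k * g := by group
        _ = _ := by rw [h1]; group
    · obtain ⟨c, hc, h1⟩ := hpow k hk l'.val
      rw [← hg1] at h1
      have : g⁻¹ * k * g⁻¹⁻¹ * a * (g⁻¹ * k * g⁻¹⁻¹)⁻¹ * a⁻¹ =
          g⁻¹ * (k * (g * a * g⁻¹) * k⁻¹) * g * a⁻¹ := by group
      rw [this, h1]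
      have := hgz c hc
      simpa [mul_assoc] using this
  obtain ⟨k, hk, n, hn, rfl⟩ := (hP.mono hPK le_top).frattini hgK
  refine ⟨n, hn, ?_, ?_⟩
  · obtain ⟨c, hc, h1⟩ := hpow k⁻¹ (inv_mem hk) l'.val
    have h2 : n * a * n⁻¹ = c * a ^ l'.val := by
      rw [← h1, ← hg1]; group
    rw [h.cm_mulVec hn haP, h2, h.co_mul (h.wes.zpowers_le hc) (pow_mem haP _), h.co_of_mem hc,
      h.co_pow haP, zero_add, ZMod.natCast_zmod_val]
  · have h1 := hzc k⁻¹ (K.inv_mem hk).1 _ (pow_mem (mem_zpowers z) l.val)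
    have h2 : n * z * n⁻¹ = z ^ l.val := by
      rw [← h1, ← hg2]; group
    rw [h.det_cm hn, h2, lg_zp h.wes.ord]

theorem card_bound [Finite G] (hP : IsSylowIn p P ⊤) (Y : Finset G) (hY : ∀ a ∈ Y, Rad p P z a)
    (hc : ∀ a ∈ Y, ∀ b ∈ Y, Commute a b → a = b) :
    (6 ≤ (p - 1) / Nat.gcd (p - 1) 3 → Y.card ≤ 2) ∧
      ((p - 1) / Nat.gcd (p - 1) 3 = 4 → Y.card ≤ 6) := by
  classical
  by_cases hn : ¬ 4 ≤ (p - 1) / Nat.gcd (p - 1) 3
  · constructor <;> intro <;> omega
  push Not at hn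
  let K := AlgebraicClosure (ZMod p)
  let φ : ZMod p →+* K := algebraMap _ _
  let σ : 𝐍(P) →* PGL(2, K) :=
    (ProjGenLinGroup.mk : GL (Fin 2) K →* PGL(2, K)).comp
      ((Matrix.GeneralLinearGroup.map φ).comp h.rho)
  have hM := (mob_pgl p (K := K)).subgroup σ.range
  haveI : Finite σ.range := Finite.of_surjective _ σ.rangeRestrict_surjective
  have hcard : ¬ p ∣ Nat.card σ.range := by
    intro hd
    rw [← index_ker] at hd
    have h1 : P.subgroupOf 𝐍(P) ≤ σ.ker := by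
      intro n hn
      have : h.rho n = 1 := Units.ext (h.cm_of_mem hn)
      simp [σ, MonoidHom.mem_ker, this]
    exact (hP.mono le_normalizer le_top).not_dvd_relIndex (hd.trans (index_dvd_of_le h1))
  have hv : ∀ a ∈ Y, (fun i => φ (co p z x y a i)) ≠ 0 := by
    intro a ha h0
    refine h.co_ne_zero (hY a ha).1 (hY a ha).2.1 (funext fun i => φ.injective ?_)
    simpa using congrFun h0 i
  let f : Y → P1 K := fun a => Projectivization.mk K _ (hv a a.2)
  have hf : Function.Injective f := by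
    intro a b hab
    refine Subtype.ext (hc a a.2 b b.2 (h.commute_of_bf (hY a a.2).1 (hY b b.2).1 ?_))
    rw [mk_eq_iff_cross] at hab
    rw [h.bf_eq (hY a a.2).1 (hY b b.2).1, sub_eq_zero]
    exact φ.injective (by simpa using hab)
  obtain ⟨l, hl⟩ := IsCyclic.exists_ofOrder_eq_natCard (α := (ZMod p)ˣ)
  rw [Nat.card_eq_fintype_card, ZMod.card_units] at hl
  have := card_pts_le hM (hM.u_eq_one_of_not_dvd hp.out hcard) hn (Finset.univ.image f) (by
    intro w hw
    obtain ⟨a, -, rfl⟩ := Finset.mem_image.1 hw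
    obtain ⟨l', hl'⟩ : ∃ l' : ZMod p, l' * l = 1 := ⟨_, l.inv_mul⟩
    obtain ⟨n, hn, h1, h2⟩ := h.exists_torus hP (hY a a.2) hl'
    have h3 : (Matrix.GeneralLinearGroup.map φ (h.rho ⟨n, hn⟩)).val *ᵥ
        (fun i => φ (co p z x y a i)) =
          φ l' • fun i => φ (co p z x y a i) := by
      funext i
      have := congrArg φ (congrFun h1 i)
      rw [mulVec_two] at this ⊢
      simpa [rho_val] using this
    have h4 : (⟨σ ⟨n, hn⟩, _, rfl⟩ : σ.range) ∈ stabilizer σ.range (f a) :=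
      (pgl_fix_iff _ _).2 ⟨_, h3⟩
    refine Dvd.dvd.trans ?_ (orderOf_dvd_natCard (⟨_, h4⟩ : stabilizer σ.range (f a)))
    rw [← hl, ← orderOf_pow, orderOf_dvd_iff_pow_eq_one]
    set k := orderOf (⟨_, h4⟩ : stabilizer σ.range (f a))
    have h5 : σ ⟨n, hn⟩ ^ k = 1 :=
      congrArg (fun t : stabilizer σ.range (f a) => ((t : σ.range) : PGL(2, K)))
        (pow_orderOf_eq_one (⟨_, h4⟩ : stabilizer σ.range (f a)))
    rw [← map_pow] at h5
    have h6 := pgl_mk_eq_one_iff.1 h5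
    have h7 : (cm p z x y n ^ k) 0 1 = 0 ∧ (cm p z x y n ^ k) 1 0 = 0 ∧
        (cm p z x y n ^ k) 0 0 = (cm p z x y n ^ k) 1 1 := by
      have e : (h.rho (⟨n, hn⟩ ^ k)).val = cm p z x y n ^ k := by
        rw [map_pow, Units.val_pow_eq_pow_val, rho_val]
      rw [← e]
      exact ⟨φ.injective (by simpa using h6.1), φ.injective (by simpa using h6.2.1),
        φ.injective (by simpa using h6.2.2)⟩
    have h8 := eigen_iff.1 (pow_mulVec_of_eigen h1 k)
    have h9 : (cm p z x y n ^ k).det = (l : ZMod p) ^ k := by rw [det_pow, h2]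
    rw [det_fin_two] at h9
    rw [h7.1, h7.2.1, h7.2.2] at h8 h9
    have h10 : (cm p z x y n ^ k) 1 1 = l' ^ k := by
      rcases ne_zero_iff_two.1 (h.co_ne_zero (hY a a.2).1 (hY a a.2).2.1) with h0 | h0
      · exact mul_right_cancel₀ h0 (by simpa using h8.1)
      · exact mul_right_cancel₀ h0 (by simpa using h8.2)
    rw [h10] at h9
    apply Units.ext
    have h11 : l' ^ k * (l : ZMod p) ^ k = 1 := by
      rw [← mul_pow, hl', one_pow]
    rw [Units.val_pow_eq_pow_val, Units.val_pow_eq_pow_val, Units.val_one, ← pow_mul, mul_comm,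
      pow_mul]
    generalize l' ^ k = s at h9 h11
    generalize (l : ZMod p) ^ k = t at h9 h11
    linear_combination (-t ^ 2) * h9 + (s * t + 1) * h11)
  rwa [Finset.card_image_of_injective _ hf, Finset.card_univ, Fintype.card_coe] at this

end XS

theorem exists_xs [Finite G] {P : Subgroup G} (hE : Cfsg.IsExtraspecial p P)
    (hcard : Nat.card P = p ^ 3) (hexp : Monoid.exponent P = p) : ∃ z x y, XS p P z x y := by
  obtain ⟨z, hz, hne⟩ := exists_wes hE
  obtain ⟨x, hx, y, hy, hxy⟩ := hz.exists_commutator_eq hp.out hne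
  refine ⟨z, x, y, hz, hx, hy, hxy, hcard, fun u hu => ?_⟩
  have := Monoid.pow_exponent_eq_one (⟨u, hu⟩ : P)
  rw [hexp] at this
  exact congrArg Subtype.val this

end coord

end H91
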